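import Mathlib

set_option autoImplicit false

/-!
Strongly regular graphs with parameters (77, 16, 0, 4): basic facts and double counting.
-/

namespace Cfsg.Agent.Helper5.SRG77

open Finset

variable {V : Type*} [Fintype V] [DecidableEq V] (G : SimpleGraph V) [DecidableRel G.Adj]

local notation "Nb" => G.neighborFinset

/-- the hypotheses in terms of neighbour finsets. -/
structure Facts : Prop where
  card : Fintype.card V = 77
  deg : ∀ v, (Nb v).card = 16
  adj : ∀ v w, G.Adj v w → Nb v ∩ Nb w = ∅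
  nadj : ∀ v w, v ≠ w → ¬ G.Adj v w → (Nb v ∩ Nb w).card = 4

/-- distinct and not adjacent. -/
def NA (a b : V) : Prop := a ≠ b ∧ ¬ G.Adj a b

/-- the number of common neighbours of three vertices. -/
def tau (a b c : V) : ℕ := (Nb a ∩ Nb b ∩ Nb c).card

/-- the vertices other than `u` and `v` adjacent to neither. -/
def far (u v : V) : Finset V :=
  univ.filter (fun x => (x ≠ u ∧ ¬ G.Adj x u) ∧ (x ≠ v ∧ ¬ G.Adj x v))

variable {G}

theorem NA.symm {a b : V} (h : NA G a b) : NA G b a := ⟨h.1.symm, fun h' => h.2 h'.symm⟩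

theorem NA.notMem {a b : V} (h : NA G a b) : a ∉ Nb b := by
  rw [SimpleGraph.mem_neighborFinset]; exact fun h' => h.2 h'.symm

theorem mem_far {u v x : V} : x ∈ far G u v ↔ NA G x u ∧ NA G x v := by
  simp [far, NA]

theorem far_comm (u v : V) : far G u v = far G v u := by
  ext x; rw [mem_far, mem_far, and_comm]

theorem tau_comm12 (a b c : V) : tau G a b c = tau G b a c := by
  unfold tau; rw [inter_comm (Nb a)]

theorem tau_comm23 (a b c : V) : tau G a b c = tau G a c b := by
  unfold tau; rw [inter_right_comm]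

theorem tau_comm13 (a b c : V) : tau G a b c = tau G c b a := by
  rw [tau_comm12, tau_comm23, tau_comm12]

theorem tau_rot (a b c : V) : tau G a b c = tau G b c a := by
  rw [tau_comm12, tau_comm23]

theorem Facts.tf (h : Facts G) {p x y : V} (hpx : G.Adj p x) (hpy : G.Adj p y) :
    ¬ G.Adj x y := by
  intro hxy
  have h1 := h.adj x y hxy
  have h2 : p ∈ Nb x ∩ Nb y := by
    rw [mem_inter, SimpleGraph.mem_neighborFinset, SimpleGraph.mem_neighborFinset]
    exact ⟨hpx.symm, hpy.symm⟩
  rw [h1] at h2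
  exact absurd h2 (notMem_empty _)

theorem Facts.card_common (h : Facts G) {a b : V} (hab : NA G a b) : (Nb a ∩ Nb b).card = 4 :=
  h.nadj a b hab.1 hab.2

/-- neighbours of a common neighbour are far. -/
theorem Facts.na_of_adj (h : Facts G) {m u x : V} (hmu : G.Adj m u) (hmx : G.Adj m x)
    (hxu : x ≠ u) : NA G x u :=
  ⟨hxu, h.tf hmx hmu⟩

/-! ### double counting -/

/-- counting the edges between two sets from both sides. -/
theorem sum_card_inter_comm (s t : Finset V) :
    ∑ w ∈ s, (t ∩ Nb w).card = ∑ m ∈ t, (s ∩ Nb m).card := by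
  have := sum_card_bipartiteAbove_eq_sum_card_bipartiteBelow (s := s) (t := t)
    (fun w m => G.Adj w m)
  unfold bipartiteAbove bipartiteBelow at this
  have e1 : ∀ w, t ∩ Nb w = t.filter (fun m => G.Adj w m) := by
    intro w; ext m; simp [SimpleGraph.mem_neighborFinset]
  have e2 : ∀ m, s ∩ Nb m = s.filter (fun w => G.Adj w m) := by
    intro m; ext w
    simp only [mem_inter, SimpleGraph.mem_neighborFinset, mem_filter]
    exact and_congr Iff.rfl ⟨fun h => h.symm, fun h => h.symm⟩
  simp_rw [e1, e2]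
  exact this

/-- the second moment. -/
theorem sum_sq_inter (s t : Finset V) :
    ∑ w ∈ s, (t ∩ Nb w).card ^ 2 = ∑ m ∈ t, ∑ m' ∈ t, (s ∩ Nb m ∩ Nb m').card := by
  have e1 : ∀ w ∈ s, (t ∩ Nb w).card ^ 2 =
      ∑ m ∈ t, if G.Adj w m then (t ∩ Nb w).card else 0 := by
    intro w _
    rw [← sum_filter, sum_const, smul_eq_mul, sq]
    congr 2
    ext m; simp [SimpleGraph.mem_neighborFinset]
  rw [sum_congr rfl e1, sum_comm]
  apply sum_congr rfl
  intro m _
  rw [← sum_card_inter_comm (s ∩ Nb m) t, ← sum_filter]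
  apply sum_congr _ (fun _ _ => rfl)
  ext w
  simp only [mem_filter, mem_inter, SimpleGraph.mem_neighborFinset]
  exact and_congr Iff.rfl ⟨fun h => h.symm, fun h => h.symm⟩

/-! ### the far set -/

theorem card_far (h : Facts G) {u v : V} (huv : NA G u v) : (far G u v).card = 47 := by
  have hD : far G u v = (insert u (insert v (Nb u ∪ Nb v)))ᶜ := by
    ext x
    simp only [far, mem_filter, mem_univ, true_and, mem_compl, mem_insert, mem_union,
      SimpleGraph.mem_neighborFinset, not_or]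
    constructor
    · rintro ⟨⟨h1, h2⟩, h3, h4⟩
      exact ⟨h1, h3, fun h' => h2 h'.symm, fun h' => h4 h'.symm⟩
    · rintro ⟨h1, h3, h2, h4⟩
      exact ⟨⟨h1, fun h' => h2 h'.symm⟩, h3, fun h' => h4 h'.symm⟩
  have hU : (Nb u ∪ Nb v).card = 28 := by
    have h1 := card_union_add_card_inter (Nb u) (Nb v)
    rw [h.deg, h.deg, h.card_common huv] at h1
    omega
  have h1 : v ∉ Nb u ∪ Nb v := by
    simp only [mem_union, SimpleGraph.mem_neighborFinset, not_or]
    exact ⟨huv.2, G.loopless.irrefl v⟩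
  have h2 : u ∉ insert v (Nb u ∪ Nb v) := by
    simp only [mem_insert, mem_union, SimpleGraph.mem_neighborFinset, not_or]
    exact ⟨huv.1, G.loopless.irrefl u, fun h' => huv.2 h'.symm⟩
  rw [hD, card_compl, card_insert_of_notMem h2, card_insert_of_notMem h1, hU, h.card]

/-- the neighbours of a common neighbour of `u` and `v` inside the far set. -/
theorem far_inter_nb (h : Facts G) {u v m : V} (huv : NA G u v) (hm : m ∈ Nb u ∩ Nb v) :
    far G u v ∩ Nb m = ((Nb m).erase u).erase v := by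
  rw [mem_inter, SimpleGraph.mem_neighborFinset, SimpleGraph.mem_neighborFinset] at hm
  ext x
  simp only [mem_inter, mem_far, mem_erase, SimpleGraph.mem_neighborFinset]
  constructor
  · rintro ⟨⟨h1, h2⟩, h3⟩
    exact ⟨h2.1, h1.1, h3⟩
  · rintro ⟨h1, h2, h3⟩
    exact ⟨⟨h.na_of_adj hm.1.symm h3 h2, h.na_of_adj hm.2.symm h3 h1⟩, h3⟩

theorem card_far_inter_nb (h : Facts G) {u v m : V} (huv : NA G u v) (hm : m ∈ Nb u ∩ Nb v) :
    (far G u v ∩ Nb m).card = 14 := by
  rw [far_inter_nb h huv hm]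
  rw [mem_inter, SimpleGraph.mem_neighborFinset, SimpleGraph.mem_neighborFinset] at hm
  have h1 : u ∈ Nb m := by rw [SimpleGraph.mem_neighborFinset]; exact hm.1.symm
  have h2 : v ∈ (Nb m).erase u := by
    rw [mem_erase, SimpleGraph.mem_neighborFinset]; exact ⟨huv.1.symm, hm.2.symm⟩
  rw [card_erase_of_mem h2, card_erase_of_mem h1, h.deg]

theorem card_far_inter_nb2 (h : Facts G) {u v m m' : V} (huv : NA G u v) (hm : m ∈ Nb u ∩ Nb v)
    (hm' : m' ∈ Nb u ∩ Nb v) (hne : m ≠ m') : (far G u v ∩ Nb m ∩ Nb m').card = 2 := by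
  have hmm : NA G m m' := by
    rw [mem_inter, SimpleGraph.mem_neighborFinset, SimpleGraph.mem_neighborFinset] at hm hm'
    exact ⟨hne, h.tf hm.1 hm'.1⟩
  have e : far G u v ∩ Nb m ∩ Nb m' = ((Nb m ∩ Nb m').erase u).erase v := by
    rw [far_inter_nb h huv hm]
    ext x
    simp only [mem_inter, mem_erase]
    tauto
  rw [e]
  rw [mem_inter, SimpleGraph.mem_neighborFinset, SimpleGraph.mem_neighborFinset] at hm hm'
  have h1 : u ∈ Nb m ∩ Nb m' := by
    rw [mem_inter, SimpleGraph.mem_neighborFinset, SimpleGraph.mem_neighborFinset]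
    exact ⟨hm.1.symm, hm'.1.symm⟩
  have h2 : v ∈ (Nb m ∩ Nb m').erase u := by
    rw [mem_erase, mem_inter, SimpleGraph.mem_neighborFinset, SimpleGraph.mem_neighborFinset]
    exact ⟨huv.1.symm, hm.2.symm, hm'.2.symm⟩
  rw [card_erase_of_mem h2, card_erase_of_mem h1, h.card_common hmm]

/-- first moment of the triple numbers. -/
theorem sum_tau (h : Facts G) {u v : V} (huv : NA G u v) :
    ∑ w ∈ far G u v, tau G u v w = 56 := by
  unfold tau
  rw [sum_card_inter_comm (far G u v) (Nb u ∩ Nb v),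
    sum_congr rfl (fun m hm => card_far_inter_nb h huv hm), sum_const, h.card_common huv]
  rfl

/-- second moment of the triple numbers. -/
theorem sum_tau_sq (h : Facts G) {u v : V} (huv : NA G u v) :
    ∑ w ∈ far G u v, tau G u v w ^ 2 = 80 := by
  unfold tau
  rw [sum_sq_inter (far G u v) (Nb u ∩ Nb v)]
  have e : ∀ m ∈ Nb u ∩ Nb v, ∑ m' ∈ Nb u ∩ Nb v, (far G u v ∩ Nb m ∩ Nb m').card = 20 := by
    intro m hm
    rw [← add_sum_erase _ _ hm, inter_assoc, inter_self, card_far_inter_nb h huv hm,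
      sum_congr rfl (fun m' hm' => card_far_inter_nb2 h huv hm (mem_of_mem_erase hm')
        (ne_of_mem_erase hm').symm), sum_const, card_erase_of_mem hm, h.card_common huv]
    rfl
  rw [sum_congr rfl e, sum_const, h.card_common huv]
  rfl

/-- the key identity. -/
theorem sum_key (h : Facts G) {u v : V} (huv : NA G u v) :
    ∑ w ∈ far G u v, ((tau G u v w : ℤ) - 1) * ((tau G u v w : ℤ) - 2) = 6 := by
  have e : ∀ w ∈ far G u v, ((tau G u v w : ℤ) - 1) * ((tau G u v w : ℤ) - 2) =
      ((tau G u v w ^ 2 : ℕ) : ℤ) - 3 * ((tau G u v w : ℕ) : ℤ) + 2 := by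
    intro w _; push_cast; ring
  rw [sum_congr rfl e, sum_add_distrib, sum_sub_distrib, ← Nat.cast_sum, ← mul_sum,
    ← Nat.cast_sum, sum_tau_sq h huv, sum_tau h huv, sum_const, card_far h huv]
  norm_num

theorem key_nonneg (n : ℕ) : (0 : ℤ) ≤ ((n : ℤ) - 1) * ((n : ℤ) - 2) := by
  rcases n with _ | _ | n
  · norm_num
  · norm_num
  · push_cast
    have : (0 : ℤ) ≤ (n : ℤ) := Int.natCast_nonneg n
    nlinarith

/-- the vertices collinear with `u` and `v`. -/
def Z (G : SimpleGraph V) [DecidableRel G.Adj] (u v : V) : Finset V :=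
  (far G u v).filter (fun w => tau G u v w = 0)

theorem mem_Z {u v w : V} : w ∈ Z G u v ↔ (NA G w u ∧ NA G w v) ∧ tau G u v w = 0 := by
  unfold Z; rw [mem_filter, mem_far]

theorem card_Z_le (h : Facts G) {u v : V} (huv : NA G u v) : (Z G u v).card ≤ 3 := by
  have h1 := sum_key h huv
  have h2 : ∑ w ∈ Z G u v, ((tau G u v w : ℤ) - 1) * ((tau G u v w : ℤ) - 2) ≤
      ∑ w ∈ far G u v, ((tau G u v w : ℤ) - 1) * ((tau G u v w : ℤ) - 2) :=
    sum_le_sum_of_subset_of_nonneg (filter_subset _ _) (fun w _ _ => key_nonneg _)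
  have h3 : ∑ w ∈ Z G u v, ((tau G u v w : ℤ) - 1) * ((tau G u v w : ℤ) - 2) =
      2 * ((Z G u v).card : ℤ) := by
    rw [sum_congr rfl (g := fun _ => (2 : ℤ))]
    · rw [sum_const]; simp; ring
    · intro w hw
      rw [(mem_Z.mp hw).2]; norm_num
  rw [h3, h1] at h2
  omega

end Cfsg.Agent.Helper5.SRG77
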