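import Mathlib
import Cfsg.Agent.Helper5.SRG77.Basic

set_option autoImplicit false

/-!
Strongly regular graphs with parameters (77, 16, 0, 4): three pairwise non-adjacent vertices have at
most two common neighbours, and the consequences.
-/

namespace Cfsg.Agent.Helper5.SRG77

open Finset

variable {V : Type*} [Fintype V] [DecidableEq V] {G : SimpleGraph V} [DecidableRel G.Adj]

local notation "Nb" => G.neighborFinset

theorem mem_nb {a b : V} : a ∈ Nb b ↔ G.Adj b a := SimpleGraph.mem_neighborFinset G b a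

/-- the neighbours of `v` that are not neighbours of `u`. -/
theorem card_nb_sdiff (h : Facts G) {u v : V} (huv : NA G u v) : (Nb v \ Nb u).card = 12 := by
  have h1 := card_sdiff_add_card_inter (Nb v) (Nb u)
  rw [h.deg, h.card_common huv.symm] at h1
  omega

/-- three pairwise non-adjacent vertices have at most two common neighbours. -/
theorem tau_le_two (h : Facts G) {u v w : V} (huv : NA G u v) (huw : NA G u w) (hvw : NA G v w) :
    tau G u v w ≤ 2 := by
  by_contra hcon
  push Not at hcon
  -- the neighbours of `u` and `w` outside the neighbours of `v`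
  obtain ⟨D, hD⟩ : ∃ D, D = (Nb u ∩ Nb w) \ Nb v := ⟨_, rfl⟩
  have hDc : D.card ≤ 1 := by
    have h1 := card_sdiff_add_card_inter (Nb u ∩ Nb w) (Nb v)
    rw [h.card_common huw, ← hD, inter_right_comm] at h1
    unfold tau at hcon
    omega
  obtain ⟨B, hB⟩ : ∃ B, B = Nb v \ Nb u := ⟨_, rfl⟩
  have hBc : B.card = 12 := hB ▸ card_nb_sdiff h huv
  -- the neighbours of `v` and `w` in `B`
  have hBw : (B ∩ Nb w).card ≤ 1 := by
    have hdisj : Disjoint (B ∩ Nb w) (Nb u ∩ Nb v ∩ Nb w) := by
      rw [disjoint_left]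
      intro x hx hx'
      rw [hB, mem_inter, mem_sdiff] at hx
      rw [mem_inter, mem_inter] at hx'
      exact hx.1.2 hx'.1.1
    have hsub : (B ∩ Nb w) ∪ (Nb u ∩ Nb v ∩ Nb w) ⊆ Nb v ∩ Nb w := by
      intro x hx
      rw [mem_union] at hx
      rcases hx with hx | hx
      · rw [hB, mem_inter, mem_sdiff] at hx
        exact mem_inter.mpr ⟨hx.1.1, hx.2⟩
      · rw [mem_inter, mem_inter] at hx
        exact mem_inter.mpr ⟨hx.1.2, hx.2⟩
    have h1 := card_le_card hsub
    rw [card_union_of_disjoint hdisj, h.card_common hvw] at h1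
    unfold tau at hcon
    omega
  -- the elements of `B` with a neighbour in `D`
  obtain ⟨E, hE⟩ : ∃ E, E = D.biUnion (fun y => Nb y ∩ Nb v) := ⟨_, rfl⟩
  have hEc : E.card ≤ 4 := by
    rw [hE]
    refine le_trans card_biUnion_le ?_
    have : ∀ y ∈ D, (Nb y ∩ Nb v).card = 4 := by
      intro y hy
      rw [hD, mem_sdiff, mem_inter, mem_nb, mem_nb, mem_nb] at hy
      apply h.card_common
      refine ⟨?_, fun h' => hy.2 h'.symm⟩
      rintro rfl
      exact huv.2 hy.1.1
    rw [sum_congr rfl this, sum_const, smul_eq_mul]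
    omega
  -- the good elements
  have hsub : B ⊆ Z G u w ∪ (B ∩ Nb w) ∪ E := by
    intro c hc
    by_cases hcw : c ∈ Nb w
    · exact mem_union_left _ (mem_union_right _ (mem_inter.mpr ⟨hc, hcw⟩))
    by_cases hcE : c ∈ E
    · exact mem_union_right _ hcE
    apply mem_union_left
    apply mem_union_left
    rw [hB, mem_sdiff, mem_nb, mem_nb] at hc
    rw [mem_nb] at hcw
    rw [mem_Z]
    refine ⟨⟨⟨?_, fun h' => hc.2 h'.symm⟩, ⟨?_, fun h' => hcw h'.symm⟩⟩, ?_⟩
    · rintro rfl
      exact huv.2 hc.1.symm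
    · rintro rfl
      exact hvw.2 hc.1
    · unfold tau
      rw [card_eq_zero, eq_empty_iff_forall_notMem]
      intro x hx
      rw [mem_inter, mem_inter, mem_nb, mem_nb, mem_nb] at hx
      by_cases hxv : G.Adj v x
      · exact h.tf hxv hc.1 hx.2.symm
      · apply hcE
        rw [hE, mem_biUnion]
        refine ⟨x, ?_, ?_⟩
        · rw [hD, mem_sdiff, mem_inter, mem_nb, mem_nb, mem_nb]
          exact ⟨⟨hx.1.1, hx.1.2⟩, hxv⟩
        · rw [mem_inter, mem_nb, mem_nb]
          exact ⟨hx.2.symm, hc.1⟩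
  have h1 := card_le_card hsub
  have h2 := card_union_le (Z G u w ∪ (B ∩ Nb w)) E
  have h3 := card_union_le (Z G u w) (B ∩ Nb w)
  have h4 := card_Z_le h huw
  omega

/-- exactly three vertices are collinear with two non-adjacent vertices. -/
theorem card_Z (h : Facts G) {u v : V} (huv : NA G u v) : (Z G u v).card = 3 := by
  have h1 := sum_key h huv
  have e : ∀ w ∈ far G u v, ((tau G u v w : ℤ) - 1) * ((tau G u v w : ℤ) - 2) =
      if tau G u v w = 0 then 2 else 0 := by
    intro w hw
    rw [mem_far] at hw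
    have := tau_le_two h huv hw.1.symm hw.2.symm
    rcases Nat.lt_or_ge (tau G u v w) 1 with h0 | h0
    · have : tau G u v w = 0 := by omega
      rw [this]; norm_num
    · rcases Nat.lt_or_ge (tau G u v w) 2 with h1 | h1
      · have : tau G u v w = 1 := by omega
        rw [this]; norm_num
      · have : tau G u v w = 2 := by omega
        rw [this]; norm_num
  rw [sum_congr rfl e, ← sum_filter, sum_const] at h1
  unfold Z
  simp only [nsmul_eq_mul] at h1
  omega

/-- twelve vertices have two common neighbours with two non-adjacent vertices. -/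
theorem card_tau_two (h : Facts G) {u v : V} (huv : NA G u v) :
    ((far G u v).filter (fun w => tau G u v w = 2)).card = 12 := by
  have h1 := sum_tau_sq h huv
  have h2 := sum_tau h huv
  have e : ∀ w ∈ far G u v, tau G u v w ^ 2 =
      tau G u v w + if tau G u v w = 2 then 2 else 0 := by
    intro w hw
    rw [mem_far] at hw
    have := tau_le_two h huv hw.1.symm hw.2.symm
    rcases Nat.lt_or_ge (tau G u v w) 1 with h0 | h0
    · have : tau G u v w = 0 := by omega
      rw [this]; norm_num
    · rcases Nat.lt_or_ge (tau G u v w) 2 with h1 | h1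
      · have : tau G u v w = 1 := by omega
        rw [this]; norm_num
      · have : tau G u v w = 2 := by omega
        rw [this]; norm_num
  rw [sum_congr rfl e, sum_add_distrib, h2, ← sum_filter, sum_const, smul_eq_mul] at h1
  omega

/-- if `p, q, r` are collinear, a neighbour of `q` that is not a neighbour of `p` is adjacent to `r`
or has two common neighbours with `p` and `r`. -/
theorem adj_or_tau_two (h : Facts G) {p q r : V} (hpq : NA G p q) (hpr : NA G p r) (hqr : NA G q r)
    (h0 : tau G p q r = 0) {c : V} (hcq : G.Adj q c) (hcp : ¬ G.Adj p c) :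
    G.Adj r c ∨ tau G p r c = 2 := by
  by_contra hcon
  push Not at hcon
  obtain ⟨hcr, hc2⟩ := hcon
  obtain ⟨B, hB⟩ : ∃ B, B = Nb q \ Nb p := ⟨_, rfl⟩
  obtain ⟨S, hS⟩ : ∃ S, S = Nb p ∩ Nb r := ⟨_, rfl⟩
  have hSc : S.card = 4 := hS ▸ h.card_common hpr
  have hBc : B.card = 12 := hB ▸ card_nb_sdiff h hpq
  have hcB : c ∈ B := by rw [hB, mem_sdiff, mem_nb, mem_nb]; exact ⟨hcq, hcp⟩
  -- the double count
  have hsum : ∑ c' ∈ B, (S ∩ Nb c').card = 16 := by
    rw [sum_card_inter_comm B S]
    have : ∀ y ∈ S, (B ∩ Nb y).card = 4 := by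
      intro y hy
      rw [hS, mem_inter, mem_nb, mem_nb] at hy
      have hyq : NA G q y := by
        refine ⟨?_, ?_⟩
        · rintro rfl
          exact hpq.2 hy.1
        · intro hqy
          have : y ∈ Nb p ∩ Nb q ∩ Nb r := by
            rw [mem_inter, mem_inter, mem_nb, mem_nb, mem_nb]; exact ⟨⟨hy.1, hqy⟩, hy.2⟩
          unfold tau at h0
          rw [card_eq_zero] at h0
          rw [h0] at this
          exact absurd this (notMem_empty _)
      have e : B ∩ Nb y = Nb q ∩ Nb y := by
        ext z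
        rw [hB, mem_inter, mem_inter, mem_sdiff, mem_nb, mem_nb, mem_nb]
        constructor
        · exact fun hz => ⟨hz.1.1, hz.2⟩
        · exact fun hz => ⟨⟨hz.1, fun hpz => h.tf hy.1 hpz hz.2⟩, hz.2⟩
      rw [e, h.card_common hyq]
    rw [sum_congr rfl this, sum_const, hSc]
    rfl
  -- the elements adjacent to `r` contribute nothing
  have hBr : (B ∩ Nb r).card = 4 := by
    have e : B ∩ Nb r = Nb q ∩ Nb r := by
      ext z
      rw [hB, mem_inter, mem_inter, mem_sdiff, mem_nb, mem_nb, mem_nb]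
      constructor
      · exact fun hz => ⟨hz.1.1, hz.2⟩
      · intro hz
        refine ⟨⟨hz.1, fun hpz => ?_⟩, hz.2⟩
        have : z ∈ Nb p ∩ Nb q ∩ Nb r := by
          rw [mem_inter, mem_inter, mem_nb, mem_nb, mem_nb]; exact ⟨⟨hpz, hz.1⟩, hz.2⟩
        unfold tau at h0
        rw [card_eq_zero] at h0
        rw [h0] at this
        exact absurd this (notMem_empty _)
    rw [e, h.card_common hqr]
  have hle : ∀ c' ∈ B \ Nb r, (S ∩ Nb c').card ≤ 2 := by
    intro c' hc'
    rw [hB, mem_sdiff, mem_sdiff, mem_nb, mem_nb, mem_nb] at hc'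
    have hpc' : NA G p c' := ⟨by rintro rfl; exact hpq.2 hc'.1.1.symm, hc'.1.2⟩
    have hrc' : NA G r c' := ⟨by rintro rfl; exact hqr.2 hc'.1.1, hc'.2⟩
    have := tau_le_two h hpr hpc' hrc'
    unfold tau at this
    rw [hS]
    exact this
  have hzero : ∀ c' ∈ B ∩ Nb r, (S ∩ Nb c').card = 0 := by
    intro c' hc'
    rw [mem_inter, mem_nb] at hc'
    rw [card_eq_zero, eq_empty_iff_forall_notMem]
    intro x hx
    rw [hS, mem_inter, mem_inter, mem_nb, mem_nb, mem_nb] at hx
    exact h.tf hx.1.2 hc'.2 hx.2.symm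
  have hsplit : ∑ c' ∈ B, (S ∩ Nb c').card =
      ∑ c' ∈ B \ Nb r, (S ∩ Nb c').card + ∑ c' ∈ B ∩ Nb r, (S ∩ Nb c').card := by
    rw [← sum_union (disjoint_sdiff_inter B (Nb r)), sdiff_union_inter]
  rw [sum_congr rfl hzero, sum_const_zero, add_zero] at hsplit
  have hcard8 : (B \ Nb r).card = 8 := by
    have := card_sdiff_add_card_inter B (Nb r)
    rw [hBr, hBc] at this
    omega
  have hcB' : c ∈ B \ Nb r := by rw [mem_sdiff, mem_nb]; exact ⟨hcB, hcr⟩
  have hlt : (S ∩ Nb c).card < 2 := by
    have := hle c hcB'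
    unfold tau at hc2
    rw [hS] at this ⊢
    omega
  have : ∑ c' ∈ B \ Nb r, (S ∩ Nb c').card < ∑ _c' ∈ B \ Nb r, 2 :=
    sum_lt_sum hle ⟨c, hcB', hlt⟩
  rw [sum_const, hcard8, smul_eq_mul, ← hsplit, hsum] at this
  omega

end Cfsg.Agent.Helper5.SRG77
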