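import Mathlib
import Cfsg.Agent.Helper5.SRG77.Triple

set_option autoImplicit false

/-!
Strongly regular graphs with parameters (77, 16, 0, 4): the lines, cocliques of five vertices
through any two non-adjacent vertices.
-/

namespace Cfsg.Agent.Helper5.SRG77

open Finset

variable {V : Type*} [Fintype V] [DecidableEq V] {G : SimpleGraph V} [DecidableRel G.Adj]

local notation "Nb" => G.neighborFinset

theorem Z_comm (u v : V) : Z G u v = Z G v u := by
  ext w
  rw [mem_Z, mem_Z, tau_comm12, and_comm (a := NA G w u)]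

theorem tau_eq_zero_iff {a b c : V} : tau G a b c = 0 ↔ ∀ x, G.Adj a x → G.Adj b x → ¬ G.Adj c x := by
  unfold tau
  rw [card_eq_zero, eq_empty_iff_forall_notMem]
  constructor
  · intro hh x ha hb hc
    apply hh x
    rw [mem_inter, mem_inter, mem_nb, mem_nb, mem_nb]
    exact ⟨⟨ha, hb⟩, hc⟩
  · intro hh x hx
    rw [mem_inter, mem_inter, mem_nb, mem_nb, mem_nb] at hx
    exact hh x hx.1.1 hx.1.2 hx.2

/-- the vertices collinear with two vertices are pairwise non-adjacent. -/
theorem Z_coclique (h : Facts G) {u v w w' : V} (huv : NA G u v) (hw : w ∈ Z G u v)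
    (hw' : w' ∈ Z G u v) : ¬ G.Adj w w' := by
  intro hadj
  rw [mem_Z] at hw hw'
  have h0 : tau G u w v = 0 := by rw [tau_comm23]; exact hw.2
  rcases adj_or_tau_two h hw.1.1.symm huv hw.1.2 h0 hadj (fun h' => hw'.1.1.2 h'.symm) with h1 | h1
  · exact hw'.1.2.2 h1.symm
  · rw [hw'.2] at h1
    omega

/-- two vertices collinear with `u` and `v` have no common neighbour with `u`, nor with `v`. -/
theorem Z_tau (h : Facts G) {u v w w' : V} (huv : NA G u v) (hw : w ∈ Z G u v)
    (hw' : w' ∈ Z G u v) (hne : w ≠ w') : tau G u w w' = 0 ∧ tau G v w w' = 0 := by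
  have hww' : NA G w w' := ⟨hne, Z_coclique h huv hw hw'⟩
  obtain ⟨T, hT⟩ : ∃ T, T = (far G u v).filter (fun c => tau G u v c = 2) := ⟨_, rfl⟩
  have hTc : T.card = 12 := hT ▸ card_tau_two h huv
  -- the neighbours of a collinear vertex that are adjacent to neither `u` nor `v`
  have key : ∀ x ∈ Z G u v, ((Nb x \ Nb u) \ Nb v) ⊆ T ∧ ((Nb x \ Nb u) \ Nb v).card = 8 := by
    intro x hx
    rw [mem_Z] at hx
    have h0 : tau G u x v = 0 := by rw [tau_comm23]; exact hx.2
    constructor
    · intro c hc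
      rw [mem_sdiff, mem_sdiff, mem_nb, mem_nb, mem_nb] at hc
      rw [hT, mem_filter, mem_far]
      have h2 : tau G u v c = 2 := by
        rcases adj_or_tau_two h hx.1.1.symm huv hx.1.2 h0 hc.1.1 hc.1.2 with h1 | h1
        · exact absurd h1 hc.2
        · exact h1
      refine ⟨⟨⟨?_, fun h' => hc.1.2 h'.symm⟩, ⟨?_, fun h' => hc.2 h'.symm⟩⟩, h2⟩
      · rintro rfl
        exact hx.1.1.2 hc.1.1
      · rintro rfl
        exact hx.1.2.2 hc.1.1
    · have h1 := card_sdiff_add_card_inter (Nb x \ Nb u) (Nb v)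
      have e : (Nb x \ Nb u) ∩ Nb v = Nb x ∩ Nb v := by
        ext z
        rw [mem_inter, mem_inter, mem_sdiff, mem_nb, mem_nb, mem_nb]
        constructor
        · exact fun hz => ⟨hz.1.1, hz.2⟩
        · intro hz
          exact ⟨⟨hz.1, fun huz => (tau_eq_zero_iff.mp hx.2) z huz hz.2 hz.1⟩, hz.2⟩
      rw [e, h.card_common hx.1.2, card_nb_sdiff h hx.1.1.symm] at h1
      omega
  obtain ⟨hX, hXc⟩ := key w hw
  obtain ⟨hX', hXc'⟩ := key w' hw'
  have h1 := card_union_add_card_inter ((Nb w \ Nb u) \ Nb v) ((Nb w' \ Nb u) \ Nb v)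
  have h2 : (((Nb w \ Nb u) \ Nb v) ∪ ((Nb w' \ Nb u) \ Nb v)).card ≤ 12 :=
    hTc ▸ card_le_card (union_subset hX hX')
  have hsub : ((Nb w \ Nb u) \ Nb v) ∩ ((Nb w' \ Nb u) \ Nb v) ⊆ Nb w ∩ Nb w' := by
    intro z hz
    rw [mem_inter, mem_sdiff, mem_sdiff, mem_sdiff, mem_sdiff] at hz
    exact mem_inter.mpr ⟨hz.1.1.1, hz.2.1.1⟩
  have heq := eq_of_subset_of_card_le hsub (by rw [h.card_common hww']; omega)
  have hall : ∀ z, G.Adj w z → G.Adj w' z → ¬ G.Adj u z ∧ ¬ G.Adj v z := by
    intro z hz hz'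
    have : z ∈ Nb w ∩ Nb w' := by rw [mem_inter, mem_nb, mem_nb]; exact ⟨hz, hz'⟩
    rw [← heq, mem_inter, mem_sdiff, mem_sdiff, mem_nb, mem_nb, mem_nb] at this
    exact ⟨this.1.1.2, this.1.2⟩
  constructor
  · rw [tau_eq_zero_iff]
    intro x hux hwx hw'x
    exact (hall x hwx hw'x).1 hux
  · rw [tau_eq_zero_iff]
    intro x hvx hwx hw'x
    exact (hall x hwx hw'x).2 hvx

/-- the line through two vertices. -/
def line (G : SimpleGraph V) [DecidableRel G.Adj] (u v : V) : Finset V :=
  insert u (insert v (Z G u v))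

theorem mem_line {u v x : V} : x ∈ line G u v ↔ x = u ∨ x = v ∨ x ∈ Z G u v := by
  unfold line; rw [mem_insert, mem_insert]

theorem left_mem_line (u v : V) : u ∈ line G u v := mem_line.mpr (Or.inl rfl)

theorem right_mem_line (u v : V) : v ∈ line G u v := mem_line.mpr (Or.inr (Or.inl rfl))

theorem line_comm (u v : V) : line G u v = line G v u := by
  ext x
  rw [mem_line, mem_line, Z_comm]
  tauto

theorem card_line (h : Facts G) {u v : V} (huv : NA G u v) : (line G u v).card = 5 := by
  unfold line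
  have h1 : v ∉ Z G u v := fun hv => (mem_Z.mp hv).1.2.1 rfl
  have h2 : u ∉ insert v (Z G u v) := by
    rw [mem_insert, not_or]
    exact ⟨huv.1, fun hu => (mem_Z.mp hu).1.1.1 rfl⟩
  rw [card_insert_of_notMem h2, card_insert_of_notMem h1, card_Z h huv]

/-- exchange: a collinear vertex gives the same line. -/
theorem line_exchange (h : Facts G) {u v w : V} (huv : NA G u v) (hw : w ∈ Z G u v) :
    line G u w = line G u v := by
  have hw0 := mem_Z.mp hw
  have huw : NA G u w := hw0.1.1.symm
  have hsub : insert v ((Z G u v).erase w) ⊆ Z G u w := by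
    intro x hx
    rw [mem_insert, mem_erase] at hx
    rcases hx with rfl | ⟨hxw, hx⟩
    · rw [mem_Z]
      refine ⟨⟨huv.symm, hw0.1.2.symm⟩, ?_⟩
      rw [tau_comm23]; exact hw0.2
    · have hx0 := mem_Z.mp hx
      rw [mem_Z]
      exact ⟨⟨hx0.1.1, ⟨hxw, fun h' => Z_coclique h huv hx hw h'⟩⟩,
        (Z_tau h huv hw hx hxw.symm).1⟩
  have hv : v ∉ (Z G u v).erase w := fun hv => (mem_Z.mp (mem_of_mem_erase hv)).1.2.1 rfl
  have heq := eq_of_subset_of_card_le hsub (by
    rw [card_Z h huw, card_insert_of_notMem hv, card_erase_of_mem hw, card_Z h huv])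
  ext x
  rw [mem_line, mem_line, ← heq, mem_insert, mem_erase]
  constructor
  · rintro (h1 | h1 | h1 | h1)
    · exact Or.inl h1
    · exact Or.inr (Or.inr (h1 ▸ hw))
    · exact Or.inr (Or.inl h1)
    · exact Or.inr (Or.inr h1.2)
  · rintro (h1 | h1 | h1)
    · exact Or.inl h1
    · exact Or.inr (Or.inr (Or.inl h1))
    · by_cases hxw : x = w
      · exact Or.inr (Or.inl hxw)
      · exact Or.inr (Or.inr (Or.inr ⟨hxw, h1⟩))

/-- two distinct vertices of a line are not adjacent. -/
theorem line_na (h : Facts G) {u v a b : V} (huv : NA G u v) (ha : a ∈ line G u v)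
    (hb : b ∈ line G u v) (hab : a ≠ b) : NA G a b := by
  rw [mem_line] at ha hb
  rcases ha with rfl | rfl | ha <;> rcases hb with rfl | rfl | hb
  · exact absurd rfl hab
  · exact huv
  · exact (mem_Z.mp hb).1.1.symm
  · exact huv.symm
  · exact absurd rfl hab
  · exact (mem_Z.mp hb).1.2.symm
  · exact (mem_Z.mp ha).1.1
  · exact (mem_Z.mp ha).1.2
  · exact ⟨hab, Z_coclique h huv ha hb⟩

/-- a line is determined by any two of its vertices. -/
theorem line_eq (h : Facts G) {u v a b : V} (huv : NA G u v) (ha : a ∈ line G u v)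
    (hb : b ∈ line G u v) (hab : a ≠ b) : line G a b = line G u v := by
  -- first the lines through `u`
  have hu : ∀ x ∈ line G u v, x ≠ u → line G u x = line G u v := by
    intro x hx hxu
    rw [mem_line] at hx
    rcases hx with rfl | rfl | hx
    · exact absurd rfl hxu
    · rfl
    · exact line_exchange h huv hx
  by_cases hau : a = u
  · subst hau
    exact hu b hb (Ne.symm hab)
  by_cases hbu : b = u
  · subst hbu
    rw [line_comm]
    exact hu a ha hau
  -- now `a` and `b` are both different from `u`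
  have h1 := hu a ha hau
  have hua : NA G u a := line_na h huv (left_mem_line u v) ha (Ne.symm hau)
  have hb' : b ∈ line G u a := h1 ▸ hb
  rw [mem_line] at hb'
  rcases hb' with hb' | hb' | hb'
  · exact absurd hb' hbu
  · exact absurd hb'.symm hab
  · have h2 := line_exchange h hua.symm (by rw [Z_comm]; exact hb')
    rw [h2, line_comm, h1]

/-- three distinct vertices of a line have no common neighbour. -/
theorem line_tau (h : Facts G) {u v a b c : V} (huv : NA G u v) (ha : a ∈ line G u v)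
    (hb : b ∈ line G u v) (hc : c ∈ line G u v) (hab : a ≠ b) (hac : a ≠ c) (hbc : b ≠ c) :
    tau G a b c = 0 := by
  have h1 := line_eq h huv ha hb hab
  rw [← h1, mem_line] at hc
  rcases hc with hc | hc | hc
  · exact absurd hc.symm hac
  · exact absurd hc.symm hbc
  · exact (mem_Z.mp hc).2

/-- a vertex collinear with `a` and `b` lies on their line. -/
theorem mem_line_of_tau (h : Facts G) {a b c : V} (hca : NA G c a) (hcb : NA G c b)
    (h0 : tau G a b c = 0) : c ∈ line G a b :=
  mem_line.mpr (Or.inr (Or.inr (mem_Z.mpr ⟨⟨hca, hcb⟩, h0⟩)))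

end Cfsg.Agent.Helper5.SRG77
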