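import Mathlib
import Cfsg.Agent.Helper5.SRG77.Line

set_option autoImplicit false

/-!
Strongly regular graphs with parameters (77, 16, 0, 4): vertices off a line, planes (cocliques of 21
vertices), and the Hoffman bound.
-/

namespace Cfsg.Agent.Helper5.SRG77

open Finset

variable {V : Type*} [Fintype V] [DecidableEq V] {G : SimpleGraph V} [DecidableRel G.Adj]

local notation "Nb" => G.neighborFinset

/-- the neighbours of a vertex of a line are partitioned by the other vertices of the line. -/
theorem nb_eq_biUnion (h : Facts G) {u v a : V} (huv : NA G u v) (ha : a ∈ line G u v) :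
    ((line G u v).erase a).biUnion (fun l => Nb a ∩ Nb l) = Nb a ∧
    ∀ l ∈ (line G u v).erase a, ∀ l' ∈ (line G u v).erase a, l ≠ l' →
      Disjoint (Nb a ∩ Nb l) (Nb a ∩ Nb l') := by
  have hdisj : ∀ l ∈ (line G u v).erase a, ∀ l' ∈ (line G u v).erase a, l ≠ l' →
      Disjoint (Nb a ∩ Nb l) (Nb a ∩ Nb l') := by
    intro l hl l' hl' hne
    rw [mem_erase] at hl hl'
    rw [disjoint_left]
    intro x hx hx'
    rw [mem_inter, mem_nb, mem_nb] at hx hx'
    exact (tau_eq_zero_iff.mp (line_tau h huv ha hl.2 hl'.2 hl.1.symm hl'.1.symm hne))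
      x hx.1 hx.2 hx'.2
  refine ⟨?_, hdisj⟩
  apply eq_of_subset_of_card_le
  · intro x hx
    rw [mem_biUnion] at hx
    obtain ⟨l, -, hx⟩ := hx
    exact (mem_inter.mp hx).1
  · rw [card_biUnion hdisj]
    have : ∀ l ∈ (line G u v).erase a, (Nb a ∩ Nb l).card = 4 := by
      intro l hl
      rw [mem_erase] at hl
      exact h.card_common (line_na h huv ha hl.2 hl.1.symm)
    rw [sum_congr rfl this, sum_const, card_erase_of_mem ha, card_line h huv, h.deg]
    rfl

/-- a vertex adjacent to a vertex of a line is adjacent to exactly one more. -/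
theorem nb_line (h : Facts G) {u v l x : V} (huv : NA G u v) (hl : l ∈ line G u v)
    (hx : G.Adj l x) : ∃ l' ∈ line G u v, l' ≠ l ∧ G.Adj l' x ∧
      ∀ l'' ∈ line G u v, G.Adj l'' x → l'' = l ∨ l'' = l' := by
  obtain ⟨h1, -⟩ := nb_eq_biUnion h huv hl
  have hx' : x ∈ Nb l := mem_nb.mpr hx
  rw [← h1, mem_biUnion] at hx'
  obtain ⟨l', hl', hxl'⟩ := hx'
  rw [mem_erase] at hl'
  rw [mem_inter, mem_nb, mem_nb] at hxl'
  refine ⟨l', hl'.2, hl'.1, hxl'.2, ?_⟩
  intro l'' hl'' hx''
  by_contra hcon
  push Not at hcon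
  exact (tau_eq_zero_iff.mp (line_tau h huv hl hl'.2 hl'' hl'.1.symm hcon.1.symm hcon.2.symm))
    x hx hxl'.2 hx''

/-- the vertices off a line: not on it and adjacent to none of its vertices. -/
def off (G : SimpleGraph V) [DecidableRel G.Adj] (L : Finset V) : Finset V :=
  univ.filter (fun x => x ∉ L ∧ L ∩ G.neighborFinset x = ∅)

theorem mem_off {L : Finset V} {x : V} : x ∈ off G L ↔ x ∉ L ∧ ∀ l ∈ L, ¬ G.Adj l x := by
  unfold off
  rw [mem_filter, eq_empty_iff_forall_notMem]
  simp only [mem_univ, true_and, mem_inter, mem_nb, not_and]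
  constructor
  · exact fun hh => ⟨hh.1, fun l hl hadj => hh.2 l hl hadj.symm⟩
  · exact fun hh => ⟨hh.1, fun l hl hadj => hh.2 l hl hadj.symm⟩

theorem na_of_off {L : Finset V} {x l : V} (hx : x ∈ off G L) (hl : l ∈ L) : NA G x l := by
  rw [mem_off] at hx
  refine ⟨?_, fun h' => hx.2 l hl h'.symm⟩
  rintro rfl
  exact hx.1 hl

/-- a vertex outside a line has no or two neighbours on it. -/
theorem card_line_inter_nb (h : Facts G) {u v x : V} (huv : NA G u v) :
    (line G u v ∩ Nb x).card = 0 ∨ (line G u v ∩ Nb x).card = 2 := by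
  by_cases hne : (line G u v ∩ Nb x).Nonempty
  · right
    obtain ⟨l, hl⟩ := hne
    rw [mem_inter, mem_nb] at hl
    obtain ⟨l', hl', hne', hadj', huniq⟩ := nb_line h huv hl.1 hl.2.symm
    have : line G u v ∩ Nb x = {l, l'} := by
      ext y
      rw [mem_inter, mem_nb, mem_insert, mem_singleton]
      constructor
      · exact fun hy => huniq y hy.1 hy.2.symm
      · rintro (rfl | rfl)
        · exact hl
        · exact ⟨hl', hadj'.symm⟩
    rw [this, card_pair hne'.symm]
  · left
    rw [not_nonempty_iff_eq_empty] at hne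
    rw [hne, card_empty]

/-- there are 32 vertices off a line. -/
theorem card_off (h : Facts G) {u v : V} (huv : NA G u v) : (off G (line G u v)).card = 32 := by
  obtain ⟨L, hL⟩ : ∃ L, L = line G u v := ⟨_, rfl⟩
  have hLc : L.card = 5 := hL ▸ card_line h huv
  have hcoc : ∀ a ∈ L, ∀ b ∈ L, ¬ G.Adj a b := by
    intro a ha b hb hadj
    have hab : a ≠ b := fun e => G.loopless.irrefl a (e ▸ hadj)
    exact (line_na h huv (hL ▸ ha) (hL ▸ hb) hab).2 hadj
  have h1 : ∑ x ∈ Lᶜ, (L ∩ Nb x).card = 80 := by
    rw [sum_card_inter_comm Lᶜ L]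
    have : ∀ l ∈ L, (Lᶜ ∩ Nb l).card = 16 := by
      intro l hl
      have e : Lᶜ ∩ Nb l = Nb l := by
        ext y
        rw [mem_inter, mem_compl, mem_nb]
        exact ⟨fun hy => hy.2, fun hy => ⟨fun hyL => hcoc l hl y hyL hy, hy⟩⟩
      rw [e, h.deg]
    rw [sum_congr rfl this, sum_const, hLc]
    rfl
  have e : ∀ x ∈ Lᶜ, (L ∩ Nb x).card = if L ∩ Nb x = ∅ then 0 else 2 := by
    intro x _
    split_ifs with h0
    · rw [h0, card_empty]
    · rcases card_line_inter_nb (x := x) h huv with h2 | h2
      · rw [← hL, card_eq_zero] at h2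
        exact absurd h2 h0
      · rw [← hL] at h2
        exact h2
  rw [sum_congr rfl e, sum_ite, sum_const_zero, zero_add, sum_const, smul_eq_mul] at h1
  have h2 := card_filter_add_card_filter_not (s := Lᶜ) (fun x => L ∩ Nb x = ∅)
  rw [card_compl, h.card, hLc] at h2
  have e2 : off G L = Lᶜ.filter (fun x => L ∩ Nb x = ∅) := by
    ext x
    unfold off
    rw [mem_filter, mem_filter, mem_compl]
    simp
  rw [← hL, e2]
  omega

/-- a vertex off a line has exactly one common neighbour with any two vertices of the line. -/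
theorem tau_of_off (h : Facts G) {u v a b c : V} (huv : NA G u v) (ha : a ∈ line G u v)
    (hb : b ∈ line G u v) (hab : a ≠ b) (hc : c ∈ off G (line G u v)) : tau G a b c = 1 := by
  obtain ⟨h1, hdisj⟩ := nb_eq_biUnion h huv ha
  have hac : NA G a c := (na_of_off hc ha).symm
  have h4 := h.card_common hac
  have e : Nb a ∩ Nb c = ((line G u v).erase a).biUnion (fun l => Nb a ∩ Nb l ∩ Nb c) := by
    rw [← biUnion_inter, h1]
  rw [e, card_biUnion] at h4
  swap
  · intro l hl l' hl' hne
    exact (hdisj l hl l' hl' hne).mono inter_subset_left inter_subset_left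
  have hge : ∀ l ∈ (line G u v).erase a, 1 ≤ (Nb a ∩ Nb l ∩ Nb c).card := by
    intro l hl
    rw [mem_erase] at hl
    by_contra hcon
    have h0 : tau G a l c = 0 := by unfold tau; omega
    have hal : NA G a l := line_na h huv ha hl.2 hl.1.symm
    have := mem_line_of_tau h (na_of_off hc ha) (na_of_off hc hl.2) h0
    rw [line_eq h huv ha hl.2 hl.1.symm] at this
    exact (mem_off.mp hc).1 this
  have hb' : b ∈ (line G u v).erase a := mem_erase.mpr ⟨hab.symm, hb⟩
  by_contra hcon
  have hlt : 1 < (Nb a ∩ Nb b ∩ Nb c).card := by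
    have := hge b hb'
    unfold tau at hcon
    omega
  have : ∑ _l ∈ (line G u v).erase a, 1 < ∑ l ∈ (line G u v).erase a, (Nb a ∩ Nb l ∩ Nb c).card :=
    sum_lt_sum hge ⟨b, hb', hlt⟩
  rw [h4, sum_const, card_erase_of_mem ha, card_line h huv] at this
  simp at this

/-- conversely a vertex with exactly one common neighbour with `a` and `b` is off their line. -/
theorem off_of_tau (h : Facts G) {a b c : V} (hab : NA G a b) (hca : NA G c a) (hcb : NA G c b)
    (h1 : tau G a b c = 1) : c ∈ off G (line G a b) := by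
  have hcL : c ∉ line G a b := by
    intro hc
    have := line_tau h hab (left_mem_line a b) (right_mem_line a b) hc hab.1 hca.1.symm hcb.1.symm
    omega
  rw [mem_off]
  refine ⟨hcL, ?_⟩
  intro l hl hadj
  -- then `c` has exactly two neighbours on the line
  have h2 : (line G a b ∩ Nb c).card = 2 := by
    rcases card_line_inter_nb (x := c) h hab with h0 | h2
    · rw [card_eq_zero] at h0
      have : l ∈ line G a b ∩ Nb c := mem_inter.mpr ⟨hl, mem_nb.mpr hadj.symm⟩
      rw [h0] at this
      exact absurd this (notMem_empty _)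
    · exact h2
  obtain ⟨hU, hdisj⟩ := nb_eq_biUnion h hab (left_mem_line a b)
  have h4 := h.card_common hca.symm
  have e : Nb a ∩ Nb c = ((line G a b).erase a).biUnion (fun l => Nb a ∩ Nb l ∩ Nb c) := by
    rw [← biUnion_inter, hU]
  rw [e, card_biUnion] at h4
  swap
  · intro l hl l' hl' hne
    exact (hdisj l hl l' hl' hne).mono inter_subset_left inter_subset_left
  -- split the sum
  obtain ⟨S, hS⟩ : ∃ S, S = ((line G a b).erase a).filter (fun l => ¬ G.Adj l c) := ⟨_, rfl⟩
  have hzero : ∀ l ∈ ((line G a b).erase a).filter (fun l => ¬ ¬ G.Adj l c),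
      (Nb a ∩ Nb l ∩ Nb c).card = 0 := by
    intro l hl
    rw [mem_filter, not_not] at hl
    rw [card_eq_zero, eq_empty_iff_forall_notMem]
    intro x hx
    rw [mem_inter, mem_inter, mem_nb, mem_nb, mem_nb] at hx
    exact h.tf hl.2 hx.1.2 hx.2
  rw [← sum_filter_add_sum_filter_not _ (fun l => ¬ G.Adj l c), sum_congr rfl hzero,
    sum_const_zero, add_zero, ← hS] at h4
  have hSc : S.card = 2 := by
    have e1 := card_filter_add_card_filter_not (s := (line G a b).erase a)
      (fun l => ¬ G.Adj l c)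
    rw [← hS, card_erase_of_mem (left_mem_line a b), card_line h hab] at e1
    have e2 : ((line G a b).erase a).filter (fun l => ¬ ¬ G.Adj l c) = line G a b ∩ Nb c := by
      ext y
      rw [mem_filter, mem_erase, mem_inter, mem_nb, not_not]
      constructor
      · exact fun hy => ⟨hy.1.2, hy.2.symm⟩
      · intro hy
        refine ⟨⟨?_, hy.1⟩, hy.2.symm⟩
        rintro rfl
        exact hca.2 hy.2
    rw [e2, h2] at e1
    omega
  have hbS : b ∈ S := by
    rw [hS, mem_filter, mem_erase]
    exact ⟨⟨hab.1.symm, right_mem_line a b⟩, fun h' => hcb.2 h'.symm⟩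
  rw [← add_sum_erase _ _ hbS] at h4
  have hle : ∀ l ∈ S.erase b, (Nb a ∩ Nb l ∩ Nb c).card ≤ 2 := by
    intro l hl
    rw [mem_erase, hS, mem_filter, mem_erase] at hl
    have hal : NA G a l := line_na h hab (left_mem_line a b) hl.2.1.2 hl.2.1.1.symm
    have hlc : NA G l c := by
      refine ⟨?_, hl.2.2⟩
      rintro rfl
      exact hcL hl.2.1.2
    exact tau_le_two h hal hca.symm hlc
  have h5 := sum_le_sum hle
  rw [sum_const, card_erase_of_mem hbS, hSc, smul_eq_mul] at h5
  unfold tau at h1
  omega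

/-- a set of pairwise non-adjacent vertices. -/
def Coc (G : SimpleGraph V) (K : Finset V) : Prop := ∀ a ∈ K, ∀ b ∈ K, ¬ G.Adj a b

/-- the plane through a line and a vertex off it. -/
def plane (G : SimpleGraph V) [DecidableRel G.Adj] (L : Finset V) (x : V) : Finset V :=
  L.biUnion (fun y => line G x y)

/-- another vertex of the line is off the line joining a vertex off the line to a vertex on it. -/
theorem off_line_of_off (h : Facts G) {u v x y y' : V} (huv : NA G u v)
    (hx : x ∈ off G (line G u v)) (hy : y ∈ line G u v) (hy' : y' ∈ line G u v) (hne : y ≠ y') :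
    y' ∈ off G (line G x y) := by
  have hxy : NA G x y := na_of_off hx hy
  have hxy' : NA G x y' := na_of_off hx hy'
  have hyy' : NA G y y' := line_na h huv hy hy' hne
  have h1 := tau_of_off h huv hy hy' hne hx
  apply off_of_tau h hxy hxy'.symm hyy'.symm
  rw [tau_rot]
  exact h1

theorem notMem_line_of_off (h : Facts G) {u v x y y' : V} (huv : NA G u v)
    (hx : x ∈ off G (line G u v)) (hy : y ∈ line G u v) (hy' : y' ∈ line G u v) (hne : y ≠ y') :
    y' ∉ line G x y :=
  (mem_off.mp (off_line_of_off h huv hx hy hy' hne)).1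

/-- a plane is a coclique. -/
theorem plane_coc (h : Facts G) {u v x : V} (huv : NA G u v) (hx : x ∈ off G (line G u v)) :
    Coc G (plane G (line G u v) x) := by
  intro k hk k' hk' hadj
  unfold plane at hk hk'
  rw [mem_biUnion] at hk hk'
  obtain ⟨y, hy, hk⟩ := hk
  obtain ⟨y', hy', hk'⟩ := hk'
  have hkk' : k ≠ k' := fun e => G.loopless.irrefl k (e ▸ hadj)
  have hxy : NA G x y := na_of_off hx hy
  have hxy' : NA G x y' := na_of_off hx hy'
  -- two vertices on one line through `x`
  have same : ∀ z ∈ line G u v, k ∈ line G x z → k' ∈ line G x z → False := by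
    intro z hz h1 h2
    exact (line_na h (na_of_off hx hz) h1 h2 hkk').2 hadj
  by_cases hyy' : y = y'
  · subst hyy'
    exact same y hy hk hk'
  by_cases hkx : k = x
  · exact same y' hy' (by rw [hkx]; exact left_mem_line x y') hk'
  by_cases hk'x : k' = x
  · exact same y hy hk (by rw [hk'x]; exact left_mem_line x y)
  -- the general case
  have hoff := off_line_of_off h huv hx hy hy' hyy'
  have hkL : line G x k = line G x y := line_eq h hxy (left_mem_line x y) hk (Ne.symm hkx)
  have hky' : NA G k y' := (na_of_off hoff hk).symm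
  have hkx' : NA G k x := line_na h hxy hk (left_mem_line x y) hkx
  have h1 : tau G x k y' = 1 := tau_of_off h hxy (left_mem_line x y) hk (Ne.symm hkx) hoff
  have h2 : k ∈ off G (line G x y') := by
    apply off_of_tau h hxy' hkx' hky'
    rw [tau_comm23]
    exact h1
  exact (mem_off.mp h2).2 k' hk' hadj.symm

/-- a plane has 21 vertices. -/
theorem card_plane (h : Facts G) {u v x : V} (huv : NA G u v) (hx : x ∈ off G (line G u v)) :
    (plane G (line G u v) x).card = 21 := by
  have e : plane G (line G u v) x =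
      insert x ((line G u v).biUnion (fun y => (line G x y).erase x)) := by
    ext k
    unfold plane
    rw [mem_insert, mem_biUnion, mem_biUnion]
    constructor
    · rintro ⟨y, hy, hk⟩
      by_cases hkx : k = x
      · exact Or.inl hkx
      · exact Or.inr ⟨y, hy, mem_erase.mpr ⟨hkx, hk⟩⟩
    · rintro (rfl | ⟨y, hy, hk⟩)
      · exact ⟨u, left_mem_line u v, left_mem_line k u⟩
      · exact ⟨y, hy, mem_of_mem_erase hk⟩
  have hx' : x ∉ (line G u v).biUnion (fun y => (line G x y).erase x) := by
    rw [mem_biUnion]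
    rintro ⟨y, -, hk⟩
    exact (mem_erase.mp hk).1 rfl
  rw [e, card_insert_of_notMem hx', card_biUnion]
  · have : ∀ y ∈ line G u v, ((line G x y).erase x).card = 4 := by
      intro y hy
      rw [card_erase_of_mem (left_mem_line x y), card_line h (na_of_off hx hy)]
    rw [sum_congr rfl this, sum_const, card_line h huv]
    rfl
  · intro y hy y' hy' hne
    rw [Function.onFun, disjoint_left]
    intro k hk hk'
    rw [mem_erase] at hk hk'
    have h1 : line G x k = line G x y :=
      line_eq h (na_of_off hx hy) (left_mem_line x y) hk.2 (Ne.symm hk.1)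
    have h2 : line G x k = line G x y' :=
      line_eq h (na_of_off hx hy') (left_mem_line x y') hk'.2 (Ne.symm hk'.1)
    apply notMem_line_of_off h huv hx hy hy' hne
    rw [← h1, h2]
    exact right_mem_line x y'

/-- the Hoffman bound: every vertex outside a coclique of 21 vertices has exactly six neighbours
in it. -/
theorem hoffman (h : Facts G) {K : Finset V} (hK : Coc G K) (hKc : K.card = 21) {z : V}
    (hz : z ∉ K) : (K ∩ Nb z).card = 6 := by
  have hnb : ∀ k ∈ K, Kᶜ ∩ Nb k = Nb k := by
    intro k hk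
    ext y
    rw [mem_inter, mem_compl, mem_nb]
    exact ⟨fun hy => hy.2, fun hy => ⟨fun hyK => hK k hk y hyK hy, hy⟩⟩
  have h1 : ∑ x ∈ Kᶜ, (K ∩ Nb x).card = 336 := by
    rw [sum_card_inter_comm Kᶜ K]
    have : ∀ k ∈ K, (Kᶜ ∩ Nb k).card = 16 := fun k hk => by rw [hnb k hk, h.deg]
    rw [sum_congr rfl this, sum_const, hKc]
    rfl
  have h2 : ∑ x ∈ Kᶜ, (K ∩ Nb x).card ^ 2 = 2016 := by
    rw [sum_sq_inter Kᶜ K]
    have : ∀ k ∈ K, ∑ k' ∈ K, (Kᶜ ∩ Nb k ∩ Nb k').card = 96 := by
      intro k hk
      rw [← add_sum_erase _ _ hk, hnb k hk, inter_self, h.deg]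
      have : ∀ k' ∈ K.erase k, (Nb k ∩ Nb k').card = 4 := by
        intro k' hk'
        rw [mem_erase] at hk'
        exact h.card_common ⟨hk'.1.symm, hK k hk k' hk'.2⟩
      rw [sum_congr rfl this, sum_const, card_erase_of_mem hk, hKc]
      rfl
    rw [sum_congr rfl this, sum_const, hKc]
    rfl
  have h3 : ∑ x ∈ Kᶜ, (((K ∩ Nb x).card : ℤ) - 6) ^ 2 = 0 := by
    have e : ∀ x ∈ Kᶜ, (((K ∩ Nb x).card : ℤ) - 6) ^ 2 =
        (((K ∩ Nb x).card ^ 2 : ℕ) : ℤ) - 12 * (((K ∩ Nb x).card : ℕ) : ℤ) + 36 := by
      intro x _; push_cast; ring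
    rw [sum_congr rfl e, sum_add_distrib, sum_sub_distrib, ← Nat.cast_sum, ← mul_sum,
      ← Nat.cast_sum, h1, h2, sum_const, card_compl, h.card, hKc]
    norm_num
  rw [sum_eq_zero_iff_of_nonneg (fun x _ => sq_nonneg _)] at h3
  have := h3 z (mem_compl.mpr hz)
  rw [sq_eq_zero_iff] at this
  omega

end Cfsg.Agent.Helper5.SRG77
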