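import Mathlib
import Cfsg.Agent.Helper5.SRG77.Plane

set_option autoImplicit false

/-!
Strongly regular graphs with parameters (77, 16, 0, 4): the 22 cocliques of 21 vertices and their
incidences with the vertices.
-/

namespace Cfsg.Agent.Helper5.SRG77

open Finset

variable {V : Type*} [Fintype V] [DecidableEq V] {G : SimpleGraph V} [DecidableRel G.Adj]

local notation "Nb" => G.neighborFinset

instance decCoc (G : SimpleGraph V) [DecidableRel G.Adj] (K : Finset V) : Decidable (Coc G K) := by
  unfold Coc; infer_instance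

/-- the points: the cocliques of 21 vertices. -/
def pts (G : SimpleGraph V) [DecidableRel G.Adj] : Finset (Finset V) :=
  univ.filter (fun K => Coc G K ∧ K.card = 21)

theorem mem_pts {K : Finset V} : K ∈ pts G ↔ Coc G K ∧ K.card = 21 := by
  unfold pts; rw [mem_filter]; simp

theorem na_of_mem_pts {K : Finset V} (hK : K ∈ pts G) {a b : V} (ha : a ∈ K) (hb : b ∈ K)
    (hab : a ≠ b) : NA G a b :=
  ⟨hab, (mem_pts.mp hK).1 a ha b hb⟩

/-- a coclique of 21 vertices contains the line through any two of its vertices, and any further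
vertex has exactly one common neighbour with the two. -/
theorem subspace (h : Facts G) {K : Finset V} (hK : K ∈ pts G) {u v : V} (hu : u ∈ K) (hv : v ∈ K)
    (hne : u ≠ v) : line G u v ⊆ K ∧ ∀ k ∈ K, k ∉ line G u v → tau G u v k = 1 := by
  have huv : NA G u v := na_of_mem_pts hK hu hv hne
  obtain ⟨hcoc, hKc⟩ := mem_pts.mp hK
  obtain ⟨K', hK'⟩ : ∃ K', K' = (K.erase u).erase v := ⟨_, rfl⟩
  have hv' : v ∈ K.erase u := mem_erase.mpr ⟨hne.symm, hv⟩
  have hK'c : K'.card = 19 := by
    rw [hK', card_erase_of_mem hv', card_erase_of_mem hu, hKc]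
  have hK'mem : ∀ k, k ∈ K' ↔ k ≠ v ∧ k ≠ u ∧ k ∈ K := by
    intro k; rw [hK', mem_erase, mem_erase]
  -- the first moment over `K'`
  have hsum : ∑ k ∈ K', tau G u v k = 16 := by
    unfold tau
    rw [sum_card_inter_comm K' (Nb u ∩ Nb v)]
    have : ∀ m ∈ Nb u ∩ Nb v, (K' ∩ Nb m).card = 4 := by
      intro m hm
      rw [mem_inter, mem_nb, mem_nb] at hm
      have hmK : m ∉ K := fun hmK => hcoc u hu m hmK hm.1
      have h6 := hoffman h hcoc hKc hmK
      have e : K' ∩ Nb m = ((K ∩ Nb m).erase u).erase v := by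
        ext k
        rw [mem_inter, hK'mem, mem_erase, mem_erase, mem_inter]
        tauto
      have h1 : u ∈ K ∩ Nb m := mem_inter.mpr ⟨hu, mem_nb.mpr hm.1.symm⟩
      have h2 : v ∈ (K ∩ Nb m).erase u :=
        mem_erase.mpr ⟨hne.symm, mem_inter.mpr ⟨hv, mem_nb.mpr hm.2.symm⟩⟩
      rw [e, card_erase_of_mem h2, card_erase_of_mem h1, h6]
    rw [sum_congr rfl this, sum_const, h.card_common huv]
    rfl
  -- the collinear vertices in `K'`
  obtain ⟨Z', hZ'⟩ : ∃ Z', Z' = K'.filter (fun k => tau G u v k = 0) := ⟨_, rfl⟩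
  obtain ⟨F, hF⟩ : ∃ F, F = K'.filter (fun k => ¬ tau G u v k = 0) := ⟨_, rfl⟩
  have hZsub : Z' ⊆ Z G u v := by
    intro k hk
    rw [hZ', mem_filter, hK'mem] at hk
    rw [mem_Z]
    exact ⟨⟨na_of_mem_pts hK hk.1.2.2 hu hk.1.2.1, na_of_mem_pts hK hk.1.2.2 hv hk.1.1⟩, hk.2⟩
  have hZc : Z'.card ≤ 3 := (card_le_card hZsub).trans (card_Z h huv).le
  have hFZ : Z'.card + F.card = 19 := by
    rw [hZ', hF, card_filter_add_card_filter_not, hK'c]
  have hsumF : ∑ k ∈ F, tau G u v k = 16 := by
    rw [hF, sum_filter_ne_zero, hsum]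
  have hge : ∀ k ∈ F, 1 ≤ tau G u v k := by
    intro k hk
    rw [hF, mem_filter] at hk
    omega
  have hFc : F.card ≤ 16 := by
    have := sum_le_sum hge
    rw [sum_const, smul_eq_mul, mul_one, hsumF] at this
    exact this
  have hZ3 : Z'.card = 3 := by omega
  have hZeq : Z' = Z G u v := eq_of_subset_of_card_le hZsub (by rw [card_Z h huv, hZ3])
  have hone : ∀ k ∈ F, tau G u v k = 1 := by
    intro k hk
    by_contra hcon
    have hlt : 1 < tau G u v k := by have := hge k hk; omega
    have : ∑ _k ∈ F, 1 < ∑ k ∈ F, tau G u v k := sum_lt_sum hge ⟨k, hk, hlt⟩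
    rw [sum_const, smul_eq_mul, mul_one, hsumF] at this
    omega
  constructor
  · intro x hx
    rw [mem_line] at hx
    rcases hx with rfl | rfl | hx
    · exact hu
    · exact hv
    · rw [← hZeq, hZ', mem_filter, hK'mem] at hx
      exact hx.1.2.2
  · intro k hk hkL
    apply hone
    have hku : k ≠ u := by
      rintro rfl
      exact hkL (left_mem_line _ _)
    have hkv : k ≠ v := by
      rintro rfl
      exact hkL (right_mem_line _ _)
    have hkK' : k ∈ K' := (hK'mem k).mpr ⟨hkv, hku, hk⟩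
    rw [hF, mem_filter]
    refine ⟨hkK', fun h0 => hkL ?_⟩
    have : k ∈ Z' := by rw [hZ', mem_filter]; exact ⟨hkK', h0⟩
    rw [hZeq] at this
    exact mem_line.mpr (Or.inr (Or.inr this))

/-- a coclique of 21 vertices through a line is the plane of the line and any further vertex. -/
theorem eq_plane (h : Facts G) {K : Finset V} (hK : K ∈ pts G) {u v x : V} (huv : NA G u v)
    (hL : line G u v ⊆ K) (hx : x ∈ K) (hxL : x ∉ line G u v) :
    x ∈ off G (line G u v) ∧ plane G (line G u v) x = K := by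
  obtain ⟨hcoc, hKc⟩ := mem_pts.mp hK
  have hoff : x ∈ off G (line G u v) :=
    mem_off.mpr ⟨hxL, fun l hl => hcoc l (hL hl) x hx⟩
  refine ⟨hoff, ?_⟩
  apply eq_of_subset_of_card_le
  · intro k hk
    unfold plane at hk
    rw [mem_biUnion] at hk
    obtain ⟨y, hy, hk⟩ := hk
    have hxy : x ≠ y := fun e => hxL (e ▸ hy)
    exact (subspace h hK hx (hL hy) hxy).1 hk
  · rw [hKc, card_plane h huv hoff]

theorem plane_mem_pts (h : Facts G) {u v x : V} (huv : NA G u v) (hx : x ∈ off G (line G u v)) :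
    plane G (line G u v) x ∈ pts G :=
  mem_pts.mpr ⟨plane_coc h huv hx, card_plane h huv hx⟩

theorem line_sub_plane {u v x : V} : line G u v ⊆ plane G (line G u v) x := by
  intro y hy
  unfold plane
  rw [mem_biUnion]
  exact ⟨y, hy, right_mem_line x y⟩

theorem self_mem_plane {u v x : V} : x ∈ plane G (line G u v) x := by
  unfold plane
  rw [mem_biUnion]
  exact ⟨u, left_mem_line u v, left_mem_line x u⟩

/-- exactly two cocliques of 21 vertices contain a given line. -/
theorem card_pts_line (h : Facts G) {u v : V} (huv : NA G u v) :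
    ((pts G).filter (fun K => line G u v ⊆ K)).card = 2 := by
  obtain ⟨PL, hPL⟩ : ∃ PL, PL = (pts G).filter (fun K => line G u v ⊆ K) := ⟨_, rfl⟩
  have e : off G (line G u v) = PL.biUnion (fun K => K \ line G u v) := by
    ext x
    rw [mem_biUnion]
    constructor
    · intro hx
      refine ⟨plane G (line G u v) x, ?_, ?_⟩
      · rw [hPL, mem_filter]
        exact ⟨plane_mem_pts h huv hx, line_sub_plane⟩
      · rw [mem_sdiff]
        exact ⟨self_mem_plane, (mem_off.mp hx).1⟩
    · rintro ⟨K, hK, hx⟩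
      rw [hPL, mem_filter] at hK
      rw [mem_sdiff] at hx
      exact (eq_plane h hK.1 huv hK.2 hx.1 hx.2).1
  have h32 := card_off h huv
  rw [e, card_biUnion] at h32
  · have : ∀ K ∈ PL, (K \ line G u v).card = 16 := by
      intro K hK
      rw [hPL, mem_filter] at hK
      rw [card_sdiff_of_subset hK.2, (mem_pts.mp hK.1).2, card_line h huv]
    rw [sum_congr rfl this, sum_const, smul_eq_mul] at h32
    rw [← hPL]
    omega
  · intro K hK K' hK' hne
    rw [mem_coe, hPL, mem_filter] at hK hK'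
    rw [Function.onFun, disjoint_left]
    intro x hx hx'
    rw [mem_sdiff] at hx hx'
    apply hne
    rw [← (eq_plane h hK.1 huv hK.2 hx.1 hx.2).2, ← (eq_plane h hK'.1 huv hK'.2 hx'.1 hx'.2).2]

/-- the points through two non-adjacent vertices are those through their line. -/
theorem filter_pts_pair (h : Facts G) {u v : V} (huv : NA G u v) :
    (pts G).filter (fun K => u ∈ K ∧ v ∈ K) = (pts G).filter (fun K => line G u v ⊆ K) := by
  ext K
  rw [mem_filter, mem_filter]
  constructor
  · exact fun hK => ⟨hK.1, (subspace h hK.1 hK.2.1 hK.2.2 huv.1).1⟩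
  · exact fun hK => ⟨hK.1, hK.2 (left_mem_line u v), hK.2 (right_mem_line u v)⟩

/-- every vertex lies in exactly six cocliques of 21 vertices. -/
theorem card_pts_vertex (h : Facts G) (u : V) : ((pts G).filter (fun K => u ∈ K)).card = 6 := by
  obtain ⟨Pu, hPu⟩ : ∃ Pu, Pu = (pts G).filter (fun K => u ∈ K) := ⟨_, rfl⟩
  obtain ⟨T, hT⟩ : ∃ T, T = (insert u (Nb u))ᶜ := ⟨_, rfl⟩
  have hTc : T.card = 60 := by
    have hu : u ∉ Nb u := by rw [mem_nb]; exact G.loopless.irrefl u
    rw [hT, card_compl, card_insert_of_notMem hu, h.deg, h.card]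
  have hTmem : ∀ z, z ∈ T ↔ NA G u z := by
    intro z
    rw [hT, mem_compl, mem_insert, mem_nb, not_or]
    exact ⟨fun hz => ⟨fun e => hz.1 e.symm, hz.2⟩, fun hz => ⟨fun e => hz.1 e.symm, hz.2⟩⟩
  have hdc := sum_card_bipartiteAbove_eq_sum_card_bipartiteBelow (s := Pu) (t := T)
    (fun K z => z ∈ K)
  unfold bipartiteAbove bipartiteBelow at hdc
  have h1 : ∀ K ∈ Pu, (T.filter (fun z => z ∈ K)).card = 20 := by
    intro K hK
    rw [hPu, mem_filter] at hK
    have e : T.filter (fun z => z ∈ K) = K.erase u := by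
      ext z
      rw [mem_filter, hTmem, mem_erase]
      constructor
      · exact fun hz => ⟨hz.1.1.symm, hz.2⟩
      · exact fun hz => ⟨na_of_mem_pts hK.1 hK.2 hz.2 hz.1.symm, hz.2⟩
    rw [e, card_erase_of_mem hK.2, (mem_pts.mp hK.1).2]
  have h2 : ∀ z ∈ T, (Pu.filter (fun K => z ∈ K)).card = 2 := by
    intro z hz
    rw [hTmem] at hz
    rw [hPu, filter_filter, filter_pts_pair h hz, card_pts_line h hz]
  rw [sum_congr rfl h1, sum_congr rfl h2, sum_const, sum_const, hTc, smul_eq_mul, smul_eq_mul]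
    at hdc
  rw [← hPu]
  omega

/-- there are 22 cocliques of 21 vertices. -/
theorem card_pts (h : Facts G) : (pts G).card = 22 := by
  have hdc := sum_card_bipartiteAbove_eq_sum_card_bipartiteBelow (s := pts G)
    (t := (univ : Finset V)) (fun K z => z ∈ K)
  unfold bipartiteAbove bipartiteBelow at hdc
  have h1 : ∀ K ∈ pts G, ((univ : Finset V).filter (fun z => z ∈ K)).card = 21 := by
    intro K hK
    have e : (univ : Finset V).filter (fun z => z ∈ K) = K := by
      ext z; simp
    rw [e, (mem_pts.mp hK).2]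
  have h2 : ∀ z ∈ (univ : Finset V), ((pts G).filter (fun K => z ∈ K)).card = 6 :=
    fun z _ => card_pts_vertex h z
  rw [sum_congr rfl h1, sum_congr rfl h2, sum_const, sum_const, card_univ, h.card, smul_eq_mul,
    smul_eq_mul] at hdc
  omega

/-- three cocliques of 21 vertices have at most one common vertex. -/
theorem common_le_one (h : Facts G) {s : Finset (Finset V)} (hs : s ⊆ pts G) (hsc : s.card = 3) :
    ((univ : Finset V).filter (fun z => ∀ K ∈ s, z ∈ K)).card ≤ 1 := by
  rw [card_le_one]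
  intro a ha b hb
  rw [mem_filter] at ha hb
  by_contra hab
  obtain ⟨K0, hK0⟩ : s.Nonempty := card_pos.mp (by omega)
  have hna : NA G a b := na_of_mem_pts (hs hK0) (ha.2 K0 hK0) (hb.2 K0 hK0) hab
  have hsub : s ⊆ (pts G).filter (fun K => a ∈ K ∧ b ∈ K) := by
    intro K hK
    rw [mem_filter]
    exact ⟨hs hK, ha.2 K hK, hb.2 K hK⟩
  have := card_le_card hsub
  rw [filter_pts_pair h hna, card_pts_line h hna, hsc] at this
  omega

/-- three cocliques of 21 vertices have exactly one common vertex. -/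
theorem common_eq_one (h : Facts G) {s : Finset (Finset V)} (hs : s ⊆ pts G) (hsc : s.card = 3) :
    ((univ : Finset V).filter (fun z => ∀ K ∈ s, z ∈ K)).card = 1 := by
  have hdc := sum_card_bipartiteAbove_eq_sum_card_bipartiteBelow (s := powersetCard 3 (pts G))
    (t := (univ : Finset V)) (fun s z => ∀ K ∈ s, z ∈ K)
  unfold bipartiteAbove bipartiteBelow at hdc
  have h2 : ∀ z ∈ (univ : Finset V),
      ((powersetCard 3 (pts G)).filter (fun s => ∀ K ∈ s, z ∈ K)).card = 20 := by
    intro z _
    have e : (powersetCard 3 (pts G)).filter (fun s => ∀ K ∈ s, z ∈ K) =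
        powersetCard 3 ((pts G).filter (fun K => z ∈ K)) := by
      ext t
      rw [mem_filter, mem_powersetCard, mem_powersetCard]
      constructor
      · rintro ⟨⟨h1, h2⟩, h3⟩
        exact ⟨fun K hK => mem_filter.mpr ⟨h1 hK, h3 K hK⟩, h2⟩
      · rintro ⟨h1, h2⟩
        exact ⟨⟨fun K hK => (mem_filter.mp (h1 hK)).1, h2⟩, fun K hK => (mem_filter.mp (h1 hK)).2⟩
    rw [e, card_powersetCard, card_pts_vertex h z]
    rfl
  rw [sum_congr rfl h2, sum_const, card_univ, h.card, smul_eq_mul] at hdc
  have hle : ∀ t ∈ powersetCard 3 (pts G),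
      ((univ : Finset V).filter (fun z => ∀ K ∈ t, z ∈ K)).card ≤ 1 := by
    intro t ht
    rw [mem_powersetCard] at ht
    exact common_le_one h ht.1 ht.2
  have hs' : s ∈ powersetCard 3 (pts G) := mem_powersetCard.mpr ⟨hs, hsc⟩
  by_contra hcon
  have hlt : ((univ : Finset V).filter (fun z => ∀ K ∈ s, z ∈ K)).card < 1 := by
    have := hle s hs'
    omega
  have := sum_lt_sum hle ⟨s, hs', hlt⟩
  rw [hdc, sum_const, card_powersetCard, card_pts h, smul_eq_mul, mul_one] at this
  have e : Nat.choose 22 3 = 1540 := by decide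
  rw [e] at this
  omega

end Cfsg.Agent.Helper5.SRG77
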