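import Mathlib
import Cfsg.Prelude.Def_Sporadic_a
import Cfsg.Agent.Helper5.SRG77.Design
import Cfsg.Agent.S0410

set_option autoImplicit false

/-!
Strongly regular graphs with parameters (77, 16, 0, 4): the Steiner system of the 22 cocliques, and
uniqueness of the graph.
-/

namespace Cfsg.Agent.Helper5.SRG77

open Finset Cfsg

section

variable {V : Type*} [Fintype V] [DecidableEq V] {G : SimpleGraph V} [DecidableRel G.Adj]

/-- the block of a vertex: the cocliques of 21 vertices through it. -/
def blk (G : SimpleGraph V) [DecidableRel G.Adj] (v : V) : Finset ↥(pts G) :=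
  univ.filter (fun K => v ∈ K.1)

theorem mem_blk {v : V} {K : ↥(pts G)} : K ∈ blk G v ↔ v ∈ K.1 := by
  unfold blk; rw [mem_filter]; simp

/-- the blocks. -/
def blocks (G : SimpleGraph V) [DecidableRel G.Adj] : Set (Finset ↥(pts G)) := Set.range (blk G)

theorem card_points (h : Facts G) : Fintype.card ↥(pts G) = 22 := by
  rw [Fintype.card_coe, card_pts h]

theorem card_blk (h : Facts G) (v : V) : (blk G v).card = 6 := by
  rw [← card_pts_vertex h v]
  apply card_bij (fun K _ => K.1)
  · intro K hK
    rw [mem_filter]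
    exact ⟨K.2, mem_blk.mp hK⟩
  · intro K _ K' _ e
    exact Subtype.ext e
  · intro K hK
    rw [mem_filter] at hK
    exact ⟨⟨K, hK.1⟩, mem_blk.mpr hK.2, rfl⟩

/-- three points as three cocliques. -/
theorem val_three (s : Finset ↥(pts G)) (hs : s.card = 3) :
    s.map ⟨Subtype.val, Subtype.val_injective⟩ ⊆ pts G ∧
      (s.map ⟨Subtype.val, Subtype.val_injective⟩).card = 3 := by
  constructor
  · intro K hK
    rw [mem_map] at hK
    obtain ⟨K', -, rfl⟩ := hK
    exact K'.2
  · rw [card_map, hs]

theorem common_iff (s : Finset ↥(pts G)) (z : V) :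
    (∀ K ∈ s.map ⟨Subtype.val, Subtype.val_injective⟩, z ∈ K) ↔ s ⊆ blk G z := by
  constructor
  · intro hz K hK
    rw [mem_blk]
    exact hz K.1 (mem_map.mpr ⟨K, hK, rfl⟩)
  · intro hz K hK
    rw [mem_map] at hK
    obtain ⟨K', hK', rfl⟩ := hK
    exact mem_blk.mp (hz hK')

theorem steiner (h : Facts G) : IsSteinerSystem 3 6 (blocks G) := by
  constructor
  · rintro b ⟨v, rfl⟩
    exact card_blk h v
  · intro s hs
    obtain ⟨h1, h2⟩ := val_three s hs
    have h3 := common_eq_one h h1 h2
    obtain ⟨z, hz⟩ := card_eq_one.mp h3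
    have hzm : z ∈ ({z} : Finset V) := mem_singleton_self z
    rw [← hz, mem_filter] at hzm
    refine ⟨blk G z, ⟨⟨z, rfl⟩, (common_iff s z).mp hzm.2⟩, ?_⟩
    rintro b ⟨⟨z', rfl⟩, hsub⟩
    have : z' ∈ (univ : Finset V).filter
        (fun z => ∀ K ∈ s.map ⟨Subtype.val, Subtype.val_injective⟩, z ∈ K) := by
      rw [mem_filter]
      exact ⟨mem_univ _, (common_iff s z').mpr hsub⟩
    rw [hz, mem_singleton] at this
    rw [this]

theorem blk_injective (h : Facts G) : Function.Injective (blk G) := by
  intro v w hvw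
  by_contra hne
  obtain ⟨s, hs, hsc⟩ := exists_subset_card_eq (s := blk G v) (n := 3) (by rw [card_blk h v]; norm_num)
  obtain ⟨h1, h2⟩ := val_three s hsc
  have h3 := common_le_one h h1 h2
  rw [card_le_one] at h3
  apply hne
  apply h3
  · rw [mem_filter]
    exact ⟨mem_univ _, (common_iff s v).mpr hs⟩
  · rw [mem_filter]
    exact ⟨mem_univ _, (common_iff s w).mpr (hvw ▸ hs)⟩

/-- two distinct vertices are adjacent exactly when their blocks are disjoint. -/
theorem adj_iff_disjoint (h : Facts G) {v w : V} (hne : v ≠ w) :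
    G.Adj v w ↔ Disjoint (blk G v) (blk G w) := by
  constructor
  · intro hadj
    rw [disjoint_left]
    intro K hK hK'
    rw [mem_blk] at hK hK'
    exact (mem_pts.mp K.2).1 v hK w hK' hadj
  · intro hdisj
    by_contra hadj
    have hna : NA G v w := ⟨hne, hadj⟩
    have h2 := card_pts_line h hna
    obtain ⟨K, hK⟩ : ((pts G).filter (fun K => line G v w ⊆ K)).Nonempty := card_pos.mp (by omega)
    rw [mem_filter] at hK
    have hv : (⟨K, hK.1⟩ : ↥(pts G)) ∈ blk G v := mem_blk.mpr (hK.2 (left_mem_line v w))
    have hw : (⟨K, hK.1⟩ : ↥(pts G)) ∈ blk G w := mem_blk.mpr (hK.2 (right_mem_line v w))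
    exact disjoint_left.mp hdisj hv hw

end

/-- two graphs with the facts are isomorphic. -/
theorem iso_of_facts {V W : Type*} [Fintype V] [DecidableEq V] [Fintype W] [DecidableEq W]
    {G : SimpleGraph V} {H : SimpleGraph W} [DecidableRel G.Adj] [DecidableRel H.Adj]
    (hG : Facts G) (hH : Facts H) : Nonempty (G ≃g H) := by
  obtain ⟨e, he⟩ := Cfsg.Agent.S0410.result (card_points hG) (card_points hH) (steiner hG)
    (steiner hH)
  have hex : ∀ v : V, ∃ w : W, blk H w = (blk G v).image e := by
    intro v
    have : (blk G v).image e ∈ blocks H := by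
      rw [← he]
      exact ⟨blk G v, ⟨v, rfl⟩, rfl⟩
    obtain ⟨w, hw⟩ := this
    exact ⟨w, hw⟩
  choose φ hφ using hex
  have hinj : Function.Injective φ := by
    intro v v' hvv'
    apply blk_injective hG
    apply image_injective e.injective
    rw [← hφ v, ← hφ v', hvv']
  have hbij : Function.Bijective φ := by
    rw [Fintype.bijective_iff_injective_and_card]
    exact ⟨hinj, by rw [hG.card, hH.card]⟩
  refine ⟨⟨Equiv.ofBijective φ hbij, ?_⟩⟩
  intro v v'
  simp only [Equiv.ofBijective_apply]
  by_cases hvv' : v = v'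
  · subst hvv'
    exact ⟨fun h' => absurd h' (H.loopless.irrefl _), fun h' => absurd h' (G.loopless.irrefl _)⟩
  · have hne : φ v ≠ φ v' := fun e' => hvv' (hinj e')
    rw [adj_iff_disjoint hH hne, adj_iff_disjoint hG hvv', hφ v, hφ v',
      disjoint_image e.injective]

theorem card_commonNeighbors_eq {V : Type*} [Fintype V] [DecidableEq V] (G : SimpleGraph V)
    [DecidableRel G.Adj] (v w : V) :
    Fintype.card (G.commonNeighbors v w) = (G.neighborFinset v ∩ G.neighborFinset w).card := by
  rw [← Set.toFinset_card]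
  congr 1
  ext x
  simp [SimpleGraph.mem_commonNeighbors]

theorem facts_of_srg {V : Type*} [Fintype V] [DecidableEq V] {G : SimpleGraph V}
    [DecidableRel G.Adj] (h : G.IsSRGWith 77 16 0 4) : Facts G where
  card := h.card
  deg := fun v => h.regular.degree_eq v
  adj := fun v w hvw => by
    have := h.of_adj v w hvw
    rw [card_commonNeighbors_eq] at this
    exact card_eq_zero.1 this
  nadj := fun v w hne hvw => by
    have := h.of_not_adj hne hvw
    rw [card_commonNeighbors_eq] at this
    exact this

end Cfsg.Agent.Helper5.SRG77
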